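import Mathlib

set_option autoImplicit false
set_option linter.unusedVariables false
set_option linter.unusedSectionVars false

/-!
# Project C3L (leader helper22) -> S5886 : `ΓL_{n/r}(q^r)` is maximal in `GL_n(q)` and in `SL_n(q)` (`r` prime, `r ∣ n`, `r < n`)

Abstract setting: `V` a vector space over the field `K`, `K` an extension of `F`; the groups live in `V ≃ₗ[F] V`.
-/

namespace Cfsg.Agent.Lib.Helper22.C3L

open Module

variable (F K : Type*) {V : Type*} [Field F] [Field K] [Algebra F K] [AddCommGroup V] [Module F V] [Module K V]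
  [IsScalarTower F K V]

/-- the `K`-line through `v`, as an `F`-subspace -/
def Kl (v : V) : Submodule F V := (Submodule.span K {v}).restrictScalars F

theorem mem_Kl {v x : V} : x ∈ Kl F K v ↔ ∃ a : K, a • v = x := by
  simp [Kl, Submodule.mem_span_singleton]

theorem smul_mem_Kl (a : K) (v : V) : a • v ∈ Kl F K v := (mem_Kl F K).mpr ⟨a, rfl⟩

theorem self_mem_Kl (v : V) : v ∈ Kl F K v := (mem_Kl F K).mpr ⟨1, one_smul K v⟩

/-- multiplication by `a : K`, as an `F`-linear map -/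
def kmul (a : K) : V →ₗ[F] V where
  toFun x := a • x
  map_add' x y := smul_add a x y
  map_smul' c x := smul_comm a c x

@[simp] theorem kmul_apply (a : K) (x : V) : kmul F K a x = a • x := rfl

variable {F} in
/-- `g` is `K`-semilinear (with respect to some automorphism of `K`) -/
def IsSemi (g : V ≃ₗ[F] V) : Prop := ∃ σ : K ≃+* K, ∀ (a : K) (x : V), g (a • x) = σ a • g x

variable (V) in
/-- the `K`-linear automorphisms of `V` of `F`-determinant 1, a subgroup of `GL_F(V)` -/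
def C1 : Subgroup (V ≃ₗ[F] V) where
  carrier := {g | (∀ (a : K) (x : V), g (a • x) = a • g x) ∧ LinearEquiv.det g = 1}
  mul_mem' := by
    rintro g h ⟨hg, hg1⟩ ⟨hh, hh1⟩
    refine ⟨fun a x => ?_, ?_⟩
    · rw [LinearEquiv.mul_apply, LinearEquiv.mul_apply, hh, hg]
    · rw [map_mul, hg1, hh1, one_mul]
  one_mem' := ⟨fun a x => rfl, map_one _⟩
  inv_mem' := by
    rintro g ⟨hg, hg1⟩
    refine ⟨fun a x => ?_, ?_⟩
    · apply g.injective
      rw [hg]
      simp
    · rw [map_inv, hg1, inv_one]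

theorem mem_C1 {g : V ≃ₗ[F] V} :
    g ∈ C1 F K V ↔ (∀ (a : K) (x : V), g (a • x) = a • g x) ∧ LinearEquiv.det g = 1 := Iff.rfl

variable {F} in
/-- the "Lie ring" of `H` at the `K`-line of `v`: the `X` with `X V ⊆ K v ⊆ ker X` and `1 + X ∈ H` -/
def LH (H : Subgroup (V ≃ₗ[F] V)) (v : V) : Set (V →ₗ[F] V) :=
  {X | (∀ x, X x ∈ Kl F K v) ∧ (∀ x ∈ Kl F K v, X x = 0) ∧ ∃ g ∈ H, ∀ x, g x = x + X x}

variable {F} in
/-- `H` does not normalise `K` -/
def NotNorm (H : Subgroup (V ≃ₗ[F] V)) : Prop :=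
  ∃ h ∈ H, ∃ a : K, ∀ b : K, ∃ x : V, h (a • x) ≠ b • h x

variable {F} in
/-- conclusion of Step A: the stabiliser of `v` in `H` moves `a v` out of `K v`, for all `a ∉ F` -/
def MovesOut (H : Subgroup (V ≃ₗ[F] V)) : Prop :=
  ∀ v : V, v ≠ 0 → ∀ a : K, a ∉ (algebraMap F K).range → ∃ h ∈ H, h v = v ∧ ∀ b : K, h (a • v) ≠ b • v

variable {F} in
/-- `H` contains an `F`-transvection `x ↦ x + φ x • z` with `φ (K z) = 0` -/
def HasTv2 (H : Subgroup (V ≃ₗ[F] V)) : Prop :=
  ∃ (φ : Module.Dual F V) (z : V) (h : φ z = 0), z ≠ 0 ∧ φ ≠ 0 ∧ (∀ a : K, φ (a • z) = 0) ∧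
    LinearEquiv.transvection h ∈ H

variable {F} in
/-- `H` contains all `F`-transvections `x ↦ x + φ x • z` with `φ (K z) = 0` -/
def AllTv2 (H : Subgroup (V ≃ₗ[F] V)) : Prop :=
  ∀ (z : V), z ≠ 0 → ∀ (φ : Module.Dual F V) (h : φ z = 0), (∀ a : K, φ (a • z) = 0) →
    LinearEquiv.transvection h ∈ H

variable {F} in
/-- `H` contains all `F`-transvections -/
def AllTv (H : Subgroup (V ≃ₗ[F] V)) : Prop :=
  ∀ (φ : Module.Dual F V) (v : V) (h : φ v = 0), LinearEquiv.transvection h ∈ H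

end Cfsg.Agent.Lib.Helper22.C3L
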