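import Mathlib
import Cfsg.Prelude.Def_GeometricClasses
import Cfsg.Agent.Lib.Helper28.SfH
import Cfsg.Agent.Lib.Helper1.ASGCLIF4
import Cfsg.Agent.Lib.Helper22.C3L.Defs
import Cfsg.Agent.Lib.Helper22.C3LMainAbsCore
import Cfsg.Agent.Lib.Helper1.C3LSTEPB
import Cfsg.Agent.Lib.Helper19.C3LR2M2
import Cfsg.Agent.Lib.Helper20.C3LSTRICT
import Cfsg.Agent.Lib.Helper24.C3LGEN

set_option autoImplicit false
set_option linter.unusedVariables false
set_option linter.unusedSectionVars false
set_option linter.style.haveILetI false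

/-! # Project C3L : transfer between `GL (Fin n) F` and `(Fin n → F) ≃ₗ[F] (Fin n → F)`, and the final statement -/

namespace Cfsg.Agent.Lib.Helper22.C3L

open Cfsg Cfsg.Geo Module
open scoped MatrixGroups Matrix

variable {F : Type*} [Field F] {n : ℕ}

/-- `GL_n(F)` as the group of linear automorphisms of `F^n` -/
noncomputable def glE (n : ℕ) (F : Type*) [Field F] : GL (Fin n) F ≃* ((Fin n → F) ≃ₗ[F] (Fin n → F)) :=
  Matrix.GeneralLinearGroup.toLin.trans (LinearMap.GeneralLinearGroup.generalLinearEquiv F (Fin n → F))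

theorem glE_apply (g : GL (Fin n) F) (x : Fin n → F) : glE n F g x = (g : Matrix (Fin n) (Fin n) F) *ᵥ x := rfl

theorem glE_toLinearMap (g : GL (Fin n) F) :
    ((glE n F g : (Fin n → F) ≃ₗ[F] (Fin n → F)) : (Fin n → F) →ₗ[F] (Fin n → F)) =
      Matrix.toLin' (g : Matrix (Fin n) (Fin n) F) := by
  ext x : 1
  rfl

theorem glE_det (g : GL (Fin n) F) : LinearEquiv.det (glE n F g) = Matrix.GeneralLinearGroup.det g := by
  apply Units.ext
  rw [LinearEquiv.coe_det, glE_toLinearMap, LinearMap.det_toLin']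
  rfl

theorem glE_symm_mulVec (g : (Fin n → F) ≃ₗ[F] (Fin n → F)) (x : Fin n → F) :
    (((glE n F).symm g : GL (Fin n) F) : Matrix (Fin n) (Fin n) F) *ᵥ x = g x := by
  rw [← glE_apply, MulEquiv.apply_symm_apply]


/-- abstract: `dim_K V ≥ 2` -/
theorem c3ltr_two_le {F K V : Type*} [Field F] [Field K] [Algebra F K] [AddCommGroup V] [Module F V] [Module K V]
    [IsScalarTower F K V] [FiniteDimensional F K] [FiniteDimensional K V] {r n : ℕ} (h1 : finrank F K = r)
    (h2 : finrank F V = n) (hlt : r < n) : 2 ≤ finrank K V := by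
  have h3 := Module.finrank_mul_finrank F K V
  rw [h1, h2] at h3
  by_contra hcon
  have : finrank K V ≤ 1 := by omega
  nlinarith

/-- a copy of the subalgebra `K` that carries only the instances we put on it -/
def KK (K : Subalgebra F (Matrix (Fin n) (Fin n) F)) : Type _ := ↥K

/-- the underlying matrix -/
def KK.mat {K : Subalgebra F (Matrix (Fin n) (Fin n) F)} (k : KK K) : Matrix (Fin n) (Fin n) F :=
  ((show ↥K from k) : Matrix (Fin n) (Fin n) F)

theorem glE_inv_mulVec (g : (Fin n → F) ≃ₗ[F] (Fin n → F)) (x : Fin n → F) :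
    ((((glE n F).symm g)⁻¹ : GL (Fin n) F) : Matrix (Fin n) (Fin n) F) *ᵥ x = g.symm x := by
  rw [← map_inv, glE_symm_mulVec]
  rfl

theorem c3ltr_mul_mul_mulVec (A B C : Matrix (Fin n) (Fin n) F) (x : Fin n → F) :
    (A * B * C) *ᵥ x = A *ᵥ (B *ᵥ (C *ᵥ x)) := by
  rw [← Matrix.mulVec_mulVec, ← Matrix.mulVec_mulVec]

theorem c3ltr_mat_ext {A B : Matrix (Fin n) (Fin n) F} (h : ∀ x, A *ᵥ x = B *ᵥ x) : A = B := by
  apply Matrix.toLin'.injective
  apply LinearMap.ext
  intro x
  exact h x

theorem c3ltr_inv_mulVec (g : GL (Fin n) F) (x : Fin n → F) :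
    ((g⁻¹ : GL (Fin n) F) : Matrix (Fin n) (Fin n) F) *ᵥ ((g : Matrix (Fin n) (Fin n) F) *ᵥ x) = x := by
  rw [Matrix.mulVec_mulVec, ← Units.val_mul, inv_mul_cancel, Units.val_one, Matrix.one_mulVec]

theorem c3ltr_mulVec_inv (g : GL (Fin n) F) (x : Fin n → F) :
    (g : Matrix (Fin n) (Fin n) F) *ᵥ (((g⁻¹ : GL (Fin n) F) : Matrix (Fin n) (Fin n) F) *ᵥ x) = x := by
  rw [Matrix.mulVec_mulVec, ← Units.val_mul, mul_inv_cancel, Units.val_one, Matrix.one_mulVec]

open Cfsg.Agent.Lib.Helper27.ASC in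
/-- the three facts about `N(K)` that the final statement needs -/
theorem c3ltr_all [Fintype F] {r : ℕ} (hr : r.Prime) (hlt : r < n) (K : Subalgebra F (Matrix (Fin n) (Fin n) F))
    (hK : IsFieldSubalgebra r K) :
    (∀ H : Subgroup (GL (Fin n) F), subalgebraNormalizer K ⊓ specialLinear (Fin n) F ≤ H →
        ¬ H ≤ subalgebraNormalizer K → specialLinear (Fin n) F ≤ H) ∧
      (∃ g : GL (Fin n) F, g ∈ specialLinear (Fin n) F ∧ g ∉ subalgebraNormalizer K) ∧
      (∀ c : Fˣ, ∃ g ∈ subalgebraNormalizer K, Matrix.GeneralLinearGroup.det g = c) := by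
  classical
  obtain ⟨fK, hmat_mul, hmat_add, hmat_one, hmat_zero⟩ : ∃ fK : Field (KK K),
      (∀ a b : KK K, (a * b).mat = a.mat * b.mat) ∧ (∀ a b : KK K, (a + b).mat = a.mat + b.mat) ∧
      (1 : KK K).mat = 1 ∧ (0 : KK K).mat = 0 :=
    ⟨(asgclif_isField K hK hr.pos).toField, fun _ _ => rfl, fun _ _ => rfl, rfl, rfl⟩
  have hmat_mem : ∀ a : KK K, a.mat ∈ K := fun a => (show ↥K from a).2
  have hmat_inj : ∀ a b : KK K, a.mat = b.mat → a = b := fun a b h => Subtype.ext h
  have hmat_surj : ∀ k ∈ K, ∃ a : KK K, a.mat = k := fun k hk => ⟨(show KK K from (⟨k, hk⟩ : ↥K)), rfl⟩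
  let i : F →+* KK K :=
    { toFun := fun c => (show KK K from (algebraMap F ↥K c))
      map_one' := hmat_inj _ _ (by rw [hmat_one]; exact congrArg Subtype.val (map_one (algebraMap F ↥K)))
      map_mul' := fun a b => hmat_inj _ _ (by
        rw [hmat_mul]; exact congrArg Subtype.val (map_mul (algebraMap F ↥K) a b))
      map_zero' := hmat_inj _ _ (by rw [hmat_zero]; exact congrArg Subtype.val (map_zero (algebraMap F ↥K)))
      map_add' := fun a b => hmat_inj _ _ (by
        rw [hmat_add]; exact congrArg Subtype.val (map_add (algebraMap F ↥K) a b)) }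
  letI aK : Algebra F (KK K) := RingHom.toAlgebra i
  have hi : ∀ c : F, (i c).mat = c • (1 : Matrix (Fin n) (Fin n) F) := fun c => by
    show ((algebraMap F ↥K c : ↥K) : Matrix (Fin n) (Fin n) F) = _
    rw [Subalgebra.coe_algebraMap, Algebra.algebraMap_eq_smul_one]
  let ρ : KK K →+* Module.End F (Fin n → F) :=
    { toFun := fun k => Matrix.toLin' k.mat
      map_one' := by rw [hmat_one, Matrix.toLin'_one]; rfl
      map_mul' := fun a b => by rw [hmat_mul, Matrix.toLin'_mul]; rfl
      map_zero' := by rw [hmat_zero, map_zero]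
      map_add' := fun a b => by rw [hmat_add, map_add] }
  letI mK : Module (KK K) (Fin n → F) := Module.compHom (Fin n → F) ρ
  have hsm : ∀ (k : KK K) (x : Fin n → F), k • x = k.mat *ᵥ x := fun _ _ => rfl
  haveI : IsScalarTower F (KK K) (Fin n → F) := ⟨fun c k x => by
    rw [hsm, hsm, Algebra.smul_def, hmat_mul]
    show ((i c).mat * k.mat) *ᵥ x = _
    rw [hi, Matrix.smul_mul, Matrix.one_mul, Matrix.smul_mulVec]⟩
  haveI : Finite (KK K) := (inferInstance : Finite ↥K)
  haveI : FiniteDimensional (KK K) (Fin n → F) := Module.Finite.of_finite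
  haveI : FiniteDimensional F (KK K) := Module.Finite.of_finite
  have hfr : finrank F (KK K) = r := by
    rw [← hK.finrank_eq]
    let e : KK K ≃ₗ[F] ↥K :=
      { toFun := fun k => (show ↥K from k)
        invFun := fun k => (show KK K from k)
        left_inv := fun _ => rfl
        right_inv := fun _ => rfl
        map_add' := fun a b => Subtype.ext (hmat_add a b)
        map_smul' := fun c k => by
          apply Subtype.ext
          show (c • k).mat = c • k.mat
          rw [Algebra.smul_def, hmat_mul]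
          show (i c).mat * k.mat = _
          rw [hi, Matrix.smul_mul, Matrix.one_mul] }
    exact e.finrank_eq
  have hm : 2 ≤ finrank (KK K) (Fin n → F) := c3ltr_two_le hfr (Module.finrank_fin_fun F) hlt
  have hrK : (finrank F (KK K)).Prime := by rw [hfr]; exact hr
  have hn2 : 2 ≤ n := by have := hr.two_le; omega
  -- semilinear maps normalise `K`
  have hsemi_mem : ∀ g : (Fin n → F) ≃ₗ[F] (Fin n → F), IsSemi (KK K) g →
      (glE n F).symm g ∈ subalgebraNormalizer K := by
    rintro g ⟨σ, hσ⟩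
    have hσ' : ∀ (b : KK K) (y : Fin n → F), g.symm (b • y) = σ.symm b • g.symm y := by
      intro b y
      apply g.injective
      rw [hσ, LinearEquiv.apply_symm_apply, LinearEquiv.apply_symm_apply, RingEquiv.apply_symm_apply]
    have h1 : ∀ a : KK K, ((glE n F).symm g : Matrix (Fin n) (Fin n) F) * a.mat *
        ((((glE n F).symm g)⁻¹ : GL (Fin n) F) : Matrix (Fin n) (Fin n) F) = (σ a).mat := by
      intro a
      apply c3ltr_mat_ext
      intro x
      rw [c3ltr_mul_mul_mulVec, glE_inv_mulVec, glE_symm_mulVec, ← hsm, hσ, LinearEquiv.apply_symm_apply, hsm]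
    have h2 : ∀ b : KK K, ((((glE n F).symm g)⁻¹ : GL (Fin n) F) : Matrix (Fin n) (Fin n) F) * b.mat *
        ((glE n F).symm g : Matrix (Fin n) (Fin n) F) = (σ.symm b).mat := by
      intro b
      apply c3ltr_mat_ext
      intro x
      rw [c3ltr_mul_mul_mulVec, glE_inv_mulVec, glE_symm_mulVec, ← hsm, hσ', LinearEquiv.symm_apply_apply, hsm]
    intro k
    constructor
    · intro hk
      obtain ⟨a, rfl⟩ := hmat_surj k hk
      rw [h1]
      exact hmat_mem _
    · intro hk
      obtain ⟨b, hb⟩ := hmat_surj _ hk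
      have h3 := h2 b
      rw [hb] at h3
      have h4 : k = (σ.symm b).mat := by
        rw [← h3]
        simp only [← mul_assoc, ← Units.val_mul, inv_mul_cancel, Units.val_one, one_mul]
        rw [mul_assoc, ← Units.val_mul, inv_mul_cancel, Units.val_one, mul_one]
      rw [h4]
      exact hmat_mem _
  -- elements of `N(K)` are semilinear
  have hmem_semi : ∀ g ∈ subalgebraNormalizer K, ∃ σ : KK K → KK K, ∀ (a : KK K) (x : Fin n → F),
      glE n F g (a • x) = σ a • glE n F g x := by
    intro g hg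
    have h1 : ∀ a : KK K, ∃ b : KK K, b.mat = (g : Matrix (Fin n) (Fin n) F) * a.mat *
        ((g⁻¹ : GL (Fin n) F) : Matrix (Fin n) (Fin n) F) := fun a => hmat_surj _ ((hg a.mat).mp (hmat_mem a))
    choose σ hσ using h1
    refine ⟨σ, fun a x => ?_⟩
    rw [glE_apply, glE_apply, hsm, hsm, hσ, c3ltr_mul_mul_mulVec, c3ltr_inv_mulVec]
  refine ⟨?_, ?_, ?_⟩
  · -- the main statement
    intro H hNH hHN
    let H' : Subgroup ((Fin n → F) ≃ₗ[F] (Fin n → F)) := H.map (glE n F).toMonoidHom
    have hH' : ∀ g : (Fin n → F) ≃ₗ[F] (Fin n → F), g ∈ H' ↔ (glE n F).symm g ∈ H := by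
      intro g
      constructor
      · rintro ⟨h, hh, rfl⟩
        show (glE n F).symm (glE n F h) ∈ H
        rw [MulEquiv.symm_apply_apply]
        exact hh
      · intro h
        exact ⟨_, h, MulEquiv.apply_symm_apply _ _⟩
    have hS : ∀ g : (Fin n → F) ≃ₗ[F] (Fin n → F), IsSemi (KK K) g → LinearEquiv.det g = 1 → g ∈ H' := by
      intro g hg hdet
      rw [hH']
      apply hNH
      refine ⟨hsemi_mem g hg, ?_⟩
      show Matrix.GeneralLinearGroup.det ((glE n F).symm g) = 1
      rw [← glE_det, MulEquiv.apply_symm_apply, hdet]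
    have hN : NotNorm (KK K) H' := by
      have key : ∀ h ∈ H, ∀ a : KK K, (h : Matrix (Fin n) (Fin n) F) * a.mat *
          ((h⁻¹ : GL (Fin n) F) : Matrix (Fin n) (Fin n) F) ∉ K → NotNorm (KK K) H' := by
        intro h hh a hna
        refine ⟨glE n F h, ⟨h, hh, rfl⟩, a, fun b => ?_⟩
        by_contra hcon
        push Not at hcon
        apply hna
        have : (h : Matrix (Fin n) (Fin n) F) * a.mat *
            ((h⁻¹ : GL (Fin n) F) : Matrix (Fin n) (Fin n) F) = b.mat := by
          apply c3ltr_mat_ext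
          intro x
          have h5 := hcon (((h⁻¹ : GL (Fin n) F) : Matrix (Fin n) (Fin n) F) *ᵥ x)
          rw [glE_apply, glE_apply, hsm, hsm, c3ltr_mulVec_inv] at h5
          rw [c3ltr_mul_mul_mulVec, h5]
        rw [this]
        exact hmat_mem _
      rw [SetLike.not_le_iff_exists] at hHN
      obtain ⟨h, hh, hhN⟩ := hHN
      have : ¬ ∀ k : Matrix (Fin n) (Fin n) F, k ∈ K ↔ (h : Matrix (Fin n) (Fin n) F) * k *
          ((h⁻¹ : GL (Fin n) F) : Matrix (Fin n) (Fin n) F) ∈ K := hhN
      push Not at this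
      obtain ⟨k, hk⟩ := this
      rcases hk with ⟨hk1, hk2⟩ | ⟨hk1, hk2⟩
      · obtain ⟨a, rfl⟩ := hmat_surj k hk1
        exact key h hh a hk2
      · obtain ⟨a, ha⟩ := hmat_surj _ hk2
        refine key h⁻¹ (H.inv_mem hh) a ?_
        rw [ha, inv_inv]
        have : ((h⁻¹ : GL (Fin n) F) : Matrix (Fin n) (Fin n) F) * ((h : Matrix (Fin n) (Fin n) F) * k *
            ((h⁻¹ : GL (Fin n) F) : Matrix (Fin n) (Fin n) F)) * (h : Matrix (Fin n) (Fin n) F) = k := by
          simp only [← mul_assoc, ← Units.val_mul, inv_mul_cancel, Units.val_one, one_mul]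
          rw [mul_assoc, ← Units.val_mul, inv_mul_cancel, Units.val_one, mul_one]
        rw [this]
        exact hk1
    have hall : AllTv H' := main_abs_core hrK hm H' hS hN
      (fun hq hC hA => stepB hrK hm hq H' hC hA)
      (fun hF h2 hm2 hS' hA => r2m2 hF h2 hm2 H' hS' hA)
    apply Cfsg.Agent.Lib.Helper28.Sf.SL_le_elem hn2
    intro i j hij a
    have hφ : (LinearMap.proj j : (Fin n → F) →ₗ[F] F) (Pi.single i a) = 0 := by
      rw [LinearMap.proj_apply, Pi.single_eq_of_ne hij.symm]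
    have h1 := hall (LinearMap.proj j) (Pi.single i a) hφ
    rw [hH'] at h1
    refine ⟨_, h1, fun x => ?_⟩
    rw [glE_symm_mulVec, LinearEquiv.transvection.apply, LinearMap.proj_apply, single_dotProduct, one_mul]
  · -- strictness
    obtain ⟨φ, v, h, hns⟩ := strict_ex (F := F) (K := KK K) (V := Fin n → F) hrK.two_le hm
    refine ⟨(glE n F).symm (LinearEquiv.transvection h), ?_, ?_⟩
    · show Matrix.GeneralLinearGroup.det ((glE n F).symm (LinearEquiv.transvection h)) = 1
      rw [← glE_det, MulEquiv.apply_symm_apply, LinearEquiv.transvection.det_eq_one]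
    · intro hmem
      obtain ⟨σ, hσ⟩ := hmem_semi _ hmem
      apply hns
      refine ⟨σ, fun a x => ?_⟩
      have := hσ a x
      rwa [MulEquiv.apply_symm_apply] at this
  · -- the determinant is onto
    intro c
    obtain ⟨d, hd, hdet⟩ := kdet_ex (F := F) (K := KK K) (V := Fin n → F) (by omega) c
    refine ⟨(glE n F).symm d, hsemi_mem d ⟨RingEquiv.refl _, fun a x => hd a x⟩, ?_⟩
    rw [← glE_det, MulEquiv.apply_symm_apply, hdet]

/-- **S5886** -/
theorem c3l_s5886 {F : Type*} [Field F] [Fintype F] (n r : ℕ) (hr : r.Prime) (hrn : r ∣ n) (hlt : r < n)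
    (K : Subalgebra F (Matrix (Fin n) (Fin n) F)) (hK : Cfsg.Geo.IsFieldSubalgebra r K) :
    IsCoatom (Cfsg.Geo.subalgebraNormalizer K) ∧
      Cfsg.Geo.IsMaximalIn (Cfsg.Geo.specialLinear (Fin n) F)
        (Cfsg.Geo.subalgebraNormalizer K ⊓ Cfsg.Geo.specialLinear (Fin n) F) := by
  obtain ⟨hmain, ⟨g₀, hg₀S, hg₀N⟩, hdet⟩ := c3ltr_all hr hlt K hK
  refine ⟨⟨?_, ?_⟩, ⟨?_, ?_⟩⟩
  · intro htop
    apply hg₀N
    rw [htop]
    exact Subgroup.mem_top _
  · intro H hH
    have hSL : specialLinear (Fin n) F ≤ H := hmain H (le_trans inf_le_left hH.le) hH.not_ge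
    rw [eq_top_iff]
    intro g _
    obtain ⟨x, hxN, hx⟩ := hdet (Matrix.GeneralLinearGroup.det g)
    have h1 : g * x⁻¹ ∈ specialLinear (Fin n) F := by
      show Matrix.GeneralLinearGroup.det (g * x⁻¹) = 1
      rw [map_mul, map_inv, hx, mul_inv_cancel]
    have h2 : g = g * x⁻¹ * x := by rw [inv_mul_cancel_right]
    rw [h2]
    exact H.mul_mem (hSL h1) (hH.le hxN)
  · refine lt_of_le_of_ne inf_le_right ?_
    intro heq
    apply hg₀N
    have : g₀ ∈ subalgebraNormalizer K ⊓ specialLinear (Fin n) F := by rw [heq]; exact hg₀S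
    exact this.1
  · intro M hNM hMS
    by_cases hMN : M ≤ subalgebraNormalizer K
    · left
      exact le_antisymm (le_inf hMN hMS) hNM
    · right
      exact le_antisymm hMS (hmain M hNM hMN)

end Cfsg.Agent.Lib.Helper22.C3L
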